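import Cfsg.Agent.H493.RatB.WitS
import Cfsg.Agent.H38.K4.HN

/-!
# S4891 (TEAM B0-RAT), sporadic row HN (helper68)

All constituents of the permutation character of degree `1539000` of HN are rational valued: seven of the eight rational
characters of helper443's scheme are irreducible, the remaining one is the sum of two irreducible characters of different
degrees (`12749` is odd), which are then fixed by all field automorphisms. `1539000` is divisible by 3 and 5.
-/

set_option autoImplicit false

namespace Cfsg.Agent.H68.RatB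

open Cfsg Cfsg.Agent.Characters.Core Cfsg.Agent.H493.RatB Cfsg.Agent.H145.BR Cfsg.Agent.Characters

universe u

section gen

variable {G : Type u} [Group G] [Fintype G]

/-- a rational valued sum of two irreducible characters of different degrees: the first one is rational valued -/
theorem rat_left {Ψ a b : G → ℂ} (ha : IsIrrCharacter G a) (hb : IsIrrCharacter G b) (h : Ψ = a + b)
    (hne : a 1 ≠ b 1) (hq : ∀ g, ∃ q : ℚ, Ψ g = q) : RatV a := by
  intro g
  rw [GaloisBasic.exists_rat_iff (isIrr_isCharacter ha)]
  intro m hm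
  have hP : IsCharacter G Ψ := by
    rw [h]
    exact isCharacter_add (isIrr_isCharacter ha) (isIrr_isCharacter hb)
  have ha' := GaloisIrr.isIrr_pow hm ha
  have hb' := GaloisIrr.isIrr_pow hm hb
  have hP' : (fun g => a (g ^ m)) + (fun g => b (g ^ m)) = a + b := by
    rw [← h]
    funext x
    have h1 := (GaloisBasic.exists_rat_iff hP x).1 (hq x) m hm
    rw [← h1, h]
    rfl
  have key : (fun g => a (g ^ m)) = a := by
    by_contra h1
    have h2 : (fun g => a (g ^ m)) ≠ b := by
      intro h3
      have h4 := congrFun h3 1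
      simp only [one_pow] at h4
      exact hne h4
    have h3 : classInner ((fun g => a (g ^ m)) + (fun g => b (g ^ m))) (fun g => a (g ^ m)) = 0 := by
      rw [hP', classInner_add_left, classInner_irr_ne ha ha' (Ne.symm h1), classInner_irr_ne hb ha' (Ne.symm h2),
        add_zero]
    rw [classInner_add_left, classInner_irr_self ha'] at h3
    obtain ⟨n, hn⟩ := classInner_isNat (isIrr_isCharacter hb') (isIrr_isCharacter ha')
    rw [hn] at h3
    have h4 : ((1 + n : ℕ) : ℂ) = 0 := by push_cast; exact h3
    have h5 : 1 + n = 0 := by exact_mod_cast h4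
    omega
  exact congrFun key g

/-- a rational valued character of norm at most two and of odd degree: all constituents are rational valued -/
theorem rat_of_norm {Ψ : G → ℂ} (hP : IsCharacter G Ψ) {N n : ℕ} (hN : classInner Ψ Ψ = N) (hn : Ψ 1 = n)
    (h : N = 1 ∨ (N = 2 ∧ n % 2 = 1)) (hq : ∀ g, ∃ q : ℚ, Ψ g = q) (ξ : IrrCharacter G)
    (hξ : classInner Ψ (ξ : G → ℂ) ≠ 0) : RatV (ξ : G → ℂ) := by
  rcases h with h | ⟨h, hodd⟩
  · have h1 : IsIrrCharacter G Ψ := isIrr_of_classInner_self hP (by rw [hN, h, Nat.cast_one])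
    have h2 : Ψ = (ξ : G → ℂ) := by
      by_contra h3
      exact hξ (classInner_irr_ne h1 ξ.2 h3)
    rw [← h2]
    exact hq
  · obtain ⟨a, b, ha, hb, -, e⟩ := H113.NormTwoChar.exists_add_of_norm_two hP (by rw [hN, h, Nat.cast_ofNat])
    have hd : a 1 ≠ b 1 := by
      intro h1
      rw [e, Pi.add_apply, ← h1, Blocks.Basic.irr_one_eq_charDegree ha] at hn
      have h2 : charDegree a + charDegree a = n := by exact_mod_cast hn
      omega
    by_cases h1 : a = (ξ : G → ℂ)
    · rw [← h1]
      exact rat_left ha hb e hd hq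
    by_cases h2 : b = (ξ : G → ℂ)
    · rw [← h2]
      exact rat_left hb ha (by rw [e, add_comm]) (Ne.symm hd) hq
    exfalso
    apply hξ
    rw [e, classInner_add_left, classInner_irr_ne ha ξ.2 h1, classInner_irr_ne hb ξ.2 h2, add_zero]

end gen

section HN

open Cfsg.Agent.H443.HN.Frame Cfsg.Agent.H38.K4.HN

/-- **HN**: `p` divides `1539000` -/
theorem witR_model {p : ℕ} [hp : Fact p.Prime] (hd : p ∣ 1539000) : WitR p Cfsg.Spor.HN := by
  have : Finite G := Nat.finite_of_card_ne_zero (by rw [card_G]; norm_num)
  have := Fintype.ofFinite G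
  obtain ⟨χ, N, h1, h2, h3, h4, h5, h6, h7⟩ := chars_rat
  have hne : N 1 1 ≠ 1 := by
    intro h
    have h8 := Blocks.Knorr.charDegree_dvd (isIrr_of_classInner_self (h1 1) (by rw [h5, h, Nat.cast_one]))
    rw [H38.K4.charDegree_eq (h2 1), card_G] at h8
    revert h8
    show ¬ (12749 ∣ 273030912000000)
    norm_num
  have h11 : ∀ s, N s s = 1 ∨ (N s s = 2 ∧ H187.Scheme.HN.nn s % 2 = 1) := by
    simp only [Fin.sum_univ_eight] at h7
    have e0 := h6 0
    have e1 := h6 1
    have e2 := h6 2
    have e3 := h6 3
    have e4 := h6 4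
    have e5 := h6 5
    have e6 := h6 6
    have e7 := h6 7
    intro s
    by_cases hs : s = 1
    · right
      subst hs
      exact ⟨by omega, by decide⟩
    · left
      fin_cases s
      · show N 0 0 = 1
        omega
      · exact absurd rfl hs
      · show N 2 2 = 1
        omega
      · show N 3 3 = 1
        omega
      · show N 4 4 = 1
        omega
      · show N 5 5 = 1
        omega
      · show N 6 6 = 1
        omega
      · show N 7 7 = 1
        omega
  have hV : p ∣ Nat.card V := by
    rw [Nat.card_eq_fintype_card, Cfsg.Agent.H443.HN.Row.card_V]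
    exact hd
  refine witR_of_dvd (S := G) (X := V) hV fun ξ hξ _ _ => ?_
  have e : permC G V = ∑ s, χ s := by
    funext g
    rw [Finset.sum_apply, h3 g]
    rfl
  rw [e, classInner_sum_left] at hξ
  obtain ⟨s, -, hs⟩ := Finset.exists_ne_zero_of_sum_ne_zero hξ
  exact rat_of_norm (h1 s) (h5 s s) (h2 s) (h11 s) (h4 s) ξ hs

theorem witR_hn {p : ℕ} [hp : Fact p.Prime] (hd : p ∣ 1539000) {S : Type u} [Group S] (h : Spor.IsoHN S) :
    WitR p S := by
  obtain ⟨e⟩ := h
  have hcard : Nat.card S = 273030912000000 := by rw [Nat.card_congr e.toEquiv]; exact card_G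
  have : Finite S := Nat.finite_of_card_ne_zero (by rw [hcard]; norm_num)
  exact (witR_model hd).congr e

/-- **[row] HN, p = 3** -/
theorem witR_hn_three {S : Type u} [Group S] (h : Spor.IsoHN S) : WitR 3 S := by
  have : Fact (Nat.Prime 3) := ⟨by norm_num⟩
  exact witR_hn (by norm_num) h

/-- **[row] HN, p = 5** -/
theorem witR_hn_five {S : Type u} [Group S] (h : Spor.IsoHN S) : WitR 5 S := by
  have : Fact (Nat.Prime 5) := ⟨by norm_num⟩
  exact witR_hn (by norm_num) h

/-- **[row] HN, p = 2** -/
theorem witR_hn_two {S : Type u} [Group S] (h : Spor.IsoHN S) : WitR 2 S := by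
  have : Fact (Nat.Prime 2) := ⟨by norm_num⟩
  exact witR_hn (by norm_num) h

end HN

end Cfsg.Agent.H68.RatB
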